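import Groth.Agent.Lib.QUnip.Val
import Mathlib.RingTheory.Etale.Basic
import Mathlib.RingTheory.Smooth.Fiber
import Mathlib.RingTheory.Kaehler.Basic
import Mathlib.RingTheory.Unramified.Basic
import Mathlib.RingTheory.Polynomial.SeparableDegree
import Mathlib.Algebra.CharP.Reduced
import Mathlib.Algebra.Polynomial.Lifts
import Mathlib.RingTheory.Flat.TorsionFree
import Mathlib.RingTheory.Valuation.LocalSubring
import Mathlib.FieldTheory.Normal.Basic

/-!
# Elements fixed by inertia generate etale extensions of a henselian discrete valuation ring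
-/

universe u

open Polynomial IsLocalRing

set_option linter.style.haveILetI false
set_option linter.unusedSectionVars false

namespace Groth.Agent.InertiaEt19

variable {R K Ω : Type u} [CommRing R] [IsDomain R] [IsDiscreteValuationRing R] [HenselianLocalRing R]
  [Field K] [Algebra R K] [IsFractionRing R K] [Field Ω] [Algebra K Ω] [IsSepClosure K Ω]
  [Algebra R Ω] [IsScalarTower R K Ω]
  {W : ValuationSubring Ω}

/-- Integral elements lie in every valuation subring containing the base. -/
theorem mem_of_isIntegral (hR : ∀ r : R, algebraMap R Ω r ∈ W) {z : Ω} (hz : IsIntegral R z) : z ∈ W := by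
  letI : Algebra R W := ((algebraMap R Ω).codRestrict W.toSubring hR).toAlgebra
  haveI : IsScalarTower R W Ω := IsScalarTower.of_algebraMap_eq fun _ => rfl
  obtain ⟨w, rfl⟩ := IsIntegrallyClosed.algebraMap_eq_of_integral (R := W) (K := Ω) (hz.tower_top (A := W))
  exact w.2

/-- A valuation subring over `R` meets `K` in `R`. -/
theorem exists_eq_of_mem (hW : SGA7.LiesOver K R W) {c : K} (hc : algebraMap K Ω c ∈ W) :
    ∃ r : R, algebraMap R K r = c := by
  by_contra hne
  have hc0 : c ≠ 0 := fun h => hne ⟨0, by rw [h, map_zero]⟩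
  obtain ⟨⟨a, s⟩, he⟩ := IsLocalization.surj (nonZeroDivisors R) c
  change c * algebraMap R K s = algebraMap R K a at he
  obtain ⟨ϖ, hϖ⟩ := IsDiscreteValuationRing.exists_irreducible R
  have hs0 : (s : R) ≠ 0 := nonZeroDivisors.ne_zero s.2
  have ha0 : a ≠ 0 := fun h => by
    rw [h, map_zero] at he
    rcases mul_eq_zero.1 he with h1 | h1
    · exact hc0 h1
    · exact hs0 (IsFractionRing.injective R K (h1.trans (map_zero _).symm))
  obtain ⟨i, v, rfl⟩ := IsDiscreteValuationRing.eq_unit_mul_pow_irreducible ha0 hϖ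
  obtain ⟨j, w, hw⟩ := IsDiscreteValuationRing.eq_unit_mul_pow_irreducible hs0 hϖ
  rw [hw] at he
  have hlt : i < j := by
    by_contra h
    refine hne ⟨(v : R) * ↑w⁻¹ * ϖ ^ (i - j), ?_⟩
    have hj : algebraMap R K ((w : R) * ϖ ^ j) ≠ 0 := fun h0 =>
      hs0 (IsFractionRing.injective R K (by rw [hw, h0, map_zero]))
    refine mul_right_cancel₀ hj ?_
    rw [he, ← map_mul]
    congr 1
    have e : ϖ ^ (i - j) * ϖ ^ j = ϖ ^ i := by rw [← pow_add, Nat.sub_add_cancel (not_lt.1 h)]
    calc (v : R) * ↑w⁻¹ * ϖ ^ (i - j) * (↑w * ϖ ^ j)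
        = v * ((↑w⁻¹ : R) * ↑w) * (ϖ ^ (i - j) * ϖ ^ j) := by ring
      _ = v * ϖ ^ i := by rw [Units.inv_mul, e]; ring
  have hk : algebraMap K Ω (c * algebraMap R K ((w : R) * ϖ ^ (j - i) * ↑v⁻¹)) = 1 := by
    rw [← map_one (algebraMap K Ω)]
    congr 1
    have hi : algebraMap R K (ϖ ^ i) ≠ 0 := fun h0 =>
      pow_ne_zero i hϖ.ne_zero (IsFractionRing.injective R K (h0.trans (map_zero _).symm))
    refine mul_right_cancel₀ hi ?_
    rw [_root_.one_mul, _root_.mul_assoc, ← map_mul,
      show (w : R) * ϖ ^ (j - i) * ↑v⁻¹ * ϖ ^ i = (w : R) * ϖ ^ j * ↑v⁻¹ by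
        rw [← Nat.sub_add_cancel hlt.le, pow_add, Nat.add_sub_cancel]; ring,
      map_mul, ← _root_.mul_assoc, he, ← map_mul]
    congr 1
    rw [mul_comm (v : R), _root_.mul_assoc, Units.mul_inv, _root_.mul_one]
  have hmem : (w : R) * ϖ ^ (j - i) * ↑v⁻¹ ∈ maximalIdeal R := by
    refine Ideal.mul_mem_right _ _ (Ideal.mul_mem_left _ _ ?_)
    exact Ideal.pow_mem_of_mem _ ((mem_maximalIdeal ϖ).2 hϖ.not_isUnit) _ (by omega)
  have h1 := hW.2 _ hmem
  rw [map_mul] at hk
  have h2 : W.valuation (1 : Ω) < 1 := by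
    rw [← hk, map_mul]
    refine lt_of_le_of_lt (mul_le_mul_of_nonneg_right ((W.valuation_le_one_iff _).2 hc) zero_le') ?_
    rw [_root_.one_mul]; exact h1
  rw [map_one] at h2
  exact lt_irrefl _ h2

/-- A valuation subring over a henselian discrete valuation ring consists of the integral elements. -/
theorem mem_iff_isIntegral (hW : SGA7.LiesOver K R W) (w : Ω) : w ∈ W ↔ IsIntegral R w := by
  haveI : IsGalois K Ω := IsSepClosure.isGalois
  have hR : ∀ r : R, algebraMap R Ω r ∈ W := fun r => by
    rw [IsScalarTower.algebraMap_apply R K Ω]; exact hW.1 r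
  refine ⟨fun hw => ?_, mem_of_isIntegral hR⟩
  have hint : IsIntegral K w := Algebra.IsIntegral.isIntegral w
  let P := (minpoly K w).map (algebraMap K Ω)
  have hsplit : P.Splits := Normal.splits inferInstance w
  have hroots : ∀ r ∈ P.roots, r ∈ W := fun r hr => by
    rw [mem_roots ((minpoly.monic hint).map _).ne_zero, IsRoot, eval_map] at hr
    have he : minpoly K r = minpoly K w := by
      refine (minpoly.eq_of_irreducible_of_monic (minpoly.irreducible hint) ?_ (minpoly.monic hint)).symm
      exact hr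
    obtain ⟨g, hg⟩ := (Normal.minpoly_eq_iff_mem_orbit Ω).mp he
    change g w = r at hg
    exact hg ▸ QUnip.stable (R := R) hW g w hw
  have hcoeff : ∀ n, algebraMap K Ω ((minpoly K w).coeff n) ∈ W := by
    intro n
    have e : P = (P.roots.map fun a => X - C a).prod :=
      hsplit.eq_prod_roots_of_monic ((minpoly.monic hint).map _)
    have hl : P ∈ Polynomial.lifts W.subtype := by
      rw [e]
      refine Subsemiring.multiset_prod_mem _ _ fun q hq => ?_
      obtain ⟨a, ha, rfl⟩ := Multiset.mem_map.1 hq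
      rw [sub_eq_add_neg, ← C_neg, show -a = W.subtype (-⟨a, hroots a ha⟩) from rfl]
      exact add_mem (X_mem_lifts _) (C_mem_lifts W.subtype _)
    obtain ⟨x, hx⟩ := (Polynomial.lifts_iff_coeff_lifts _).1 hl n
    rw [show algebraMap K Ω ((minpoly K w).coeff n) = P.coeff n from (coeff_map _ _).symm, ← hx]
    exact x.2
  have hl : minpoly K w ∈ Polynomial.lifts (algebraMap R K) :=
    (Polynomial.lifts_iff_coeff_lifts _).2 fun n => exists_eq_of_mem hW (hcoeff n)
  obtain ⟨G, hG, -, hGm⟩ := Polynomial.lifts_and_natDegree_eq_and_monic hl (minpoly.monic hint)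
  refine ⟨G, hGm, ?_⟩
  rw [IsScalarTower.algebraMap_eq R K Ω, ← eval₂_map, hG]
  exact minpoly.aeval K w

/-- Roots of polynomials separable over `R`. -/
def IsEtElem (R : Type u) {Ω : Type u} [CommRing R] [CommRing Ω] [Algebra R Ω] (θ : Ω) : Prop :=
  ∃ G : R[X], G.Monic ∧ G.Separable ∧ aeval θ G = 0

theorem IsEtElem.isIntegral {θ : Ω} (h : IsEtElem R θ) : IsIntegral R θ :=
  ⟨h.choose, h.choose_spec.1, h.choose_spec.2.2⟩

/-- A lift of a separable monic polynomial over the residue field is separable. -/
theorem separable_of_map_residue {G : R[X]} (hm : G.Monic) (hs : (G.map (residue R)).Separable) : G.Separable := by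
  obtain ⟨a, b, hab⟩ := hs
  rw [derivative_map] at hab
  have hsurj := Polynomial.map_surjective (residue R) residue_surjective
  obtain ⟨a', rfl⟩ := hsurj a
  obtain ⟨b', rfl⟩ := hsurj b
  rw [← Polynomial.map_mul, ← Polynomial.map_mul, ← Polynomial.map_add] at hab
  let A := AdjoinRoot G
  haveI : Module.Finite R A := hm.finite_adjoinRoot
  have hu : IsUnit (AdjoinRoot.mk G (b' * derivative G)) := by
    have hmem : a' * G + b' * derivative G - 1 ∈ (maximalIdeal R).map (C : R →+* R[X]) := by
      rw [Ideal.mem_map_C_iff]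
      intro n
      rw [← residue_eq_zero_iff, ← coeff_map, Polynomial.map_sub, hab, Polynomial.map_one, sub_self, coeff_zero]
    have hj : AdjoinRoot.mk G (b' * derivative G) - 1 ∈ (⊥ : Ideal A).jacobson := by
      have h1 : AdjoinRoot.mk G (b' * derivative G) - 1 ∈ (maximalIdeal R).map (algebraMap R A) := by
        have h2 := Ideal.mem_map_of_mem (AdjoinRoot.mk G) hmem
        rw [Ideal.map_map] at h2
        rw [map_sub, map_add, map_mul, AdjoinRoot.mk_self, mul_zero, zero_add, map_one] at h2
        exact h2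
      rw [Ideal.jacobson_bot, Ring.jacobson_eq_sInf_isMaximal, Ideal.mem_sInf]
      intro M hM
      haveI : M.IsMaximal := hM
      have hc : (M.comap (algebraMap R A)).IsMaximal := Ideal.isMaximal_comap_of_isIntegral_of_isMaximal M
      exact Ideal.map_le_iff_le_comap.2 (IsLocalRing.eq_maximalIdeal hc).ge h1
    have h3 := Ideal.mem_jacobson_bot.1 hj 1
    rwa [mul_one, sub_add_cancel] at h3
  obtain ⟨v, hv⟩ := hu.exists_left_inv
  obtain ⟨v', rfl⟩ := AdjoinRoot.mk_surjective v
  rw [← map_mul, ← map_one (AdjoinRoot.mk G), AdjoinRoot.mk_eq_mk] at hv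
  obtain ⟨q, hq⟩ := hv
  exact ⟨-q, v' * b', by linear_combination hq⟩

/-- An automorphism fixing all roots of separable polynomials over `R` lies in the inertia. -/
theorem isInertia_of_fix (hW : SGA7.LiesOver K R W) (σ : Ω ≃ₐ[K] Ω)
    (hσ : ∀ θ : Ω, IsEtElem R θ → σ θ = θ) : SGA7.IsInertia W σ := by
  classical
  haveI : IsSepClosed Ω := IsSepClosure.sep_closed K
  intro x hx
  have hR : ∀ r : R, algebraMap R Ω r ∈ W := fun r => by
    rw [IsScalarTower.algebraMap_apply R K Ω]; exact hW.1 r
  have hsx := QUnip.stable (R := R) hW σ x hx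
  refine ⟨hsx, ?_⟩
  let φ : R →+* W := (algebraMap R Ω).codRestrict W.toSubring hR
  let π : W →+* ResidueField W := residue W
  have hker : ∀ r ∈ maximalIdeal R, (π.comp φ) r = 0 := fun r hr => by
    refine (residue_eq_zero_iff _).2 ((W.valuation_lt_one_iff _).2 ?_)
    show W.valuation (algebraMap R Ω r) < 1
    rw [IsScalarTower.algebraMap_apply R K Ω]
    exact hW.2 r hr
  let ψ : ResidueField R →+* ResidueField W := Ideal.Quotient.lift _ (π.comp φ) hker
  letI := ψ.toAlgebra
  have hψ : (algebraMap (ResidueField R) (ResidueField W)).comp (residue R) = π.comp φ :=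
    Ideal.Quotient.lift_comp_mk _ _ _
  let w : W := ⟨x, hx⟩
  have hint : IsIntegral (ResidueField R) (π w) := by
    obtain ⟨G, hGm, hG⟩ := (mem_iff_isIntegral hW x).1 hx
    refine ⟨G.map (residue R), hGm.map _, ?_⟩
    rw [eval₂_map, hψ, ← hom_eval₂, show G.eval₂ φ w = 0 from Subtype.ext ?_, map_zero]
    show W.subtype (G.eval₂ φ w) = 0
    rw [hom_eval₂]
    exact hG
  obtain ⟨q, hqexp⟩ : ∃ q, ExpChar (ResidueField R) q := ⟨_, ringExpChar.expChar (ResidueField R)⟩
  haveI : ExpChar (ResidueField W) q := expChar_of_injective_ringHom (R := ResidueField R) (A := ResidueField W) (f := ψ) ψ.injective q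
  obtain ⟨g, hgs, m, hgm⟩ := (minpoly.irreducible hint).hasSeparableContraction q
  have hgmon : g.Monic := by
    have h := minpoly.monic hint
    rw [← hgm] at h
    rwa [monic_expand_iff (pow_pos (expChar_pos (ResidueField R) q) _)] at h
  obtain ⟨G, hG, -, hGm⟩ := Polynomial.lifts_and_natDegree_eq_and_monic
    ((Polynomial.lifts_iff_coeff_lifts _).2 fun n => residue_surjective (g.coeff n)) hgmon
  have hGs : G.Separable := separable_of_map_residue hGm (hG ▸ hgs)
  let P := G.map (algebraMap R Ω)
  have hPsplit : P.Splits := IsSepClosed.splits_of_separable _ hGs.map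
  have hPprod : P = (P.roots.map fun a => X - C a).prod := hPsplit.eq_prod_roots_of_monic (hGm.map _)
  have hrW : ∀ a ∈ P.roots, a ∈ W := fun a ha => by
    refine mem_of_isIntegral hR ⟨G, hGm, ?_⟩
    rw [mem_roots (hGm.map _).ne_zero, IsRoot, eval_map] at ha
    exact ha
  let roots : Multiset W := P.roots.attach.map fun a => ⟨a.1, hrW a.1 a.2⟩
  have hGW : G.map φ = (roots.map fun a => X - C a).prod := by
    refine Polynomial.map_injective W.subtype Subtype.val_injective ?_
    rw [Polynomial.map_map, show W.subtype.comp φ = algebraMap R Ω from rfl, Polynomial.map_multiset_prod,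
      Multiset.map_map, Multiset.map_map]
    refine hPprod.trans (congrArg Multiset.prod ?_)
    conv_lhs => rw [← Multiset.attach_map_val P.roots, Multiset.map_map]
    exact Multiset.map_congr rfl fun a _ => by simp
  obtain ⟨a, ha, hae⟩ : ∃ a ∈ roots, π a = π w ^ q ^ m := by
    have h0 : (G.map φ).eval₂ π (π w ^ q ^ m) = 0 := by
      rw [eval₂_map, ← hψ, ← eval₂_map, hG]
      show aeval (π w ^ q ^ m) g = 0
      rw [← expand_aeval, hgm]
      exact minpoly.aeval _ _
    rw [hGW, eval₂_multiset_prod, Multiset.prod_eq_zero_iff] at h0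
    simp only [Multiset.mem_map, exists_exists_and_eq_and, eval₂_sub, eval₂_X, eval₂_C, sub_eq_zero] at h0
    obtain ⟨a, ha, e⟩ := h0
    exact ⟨a, ha, e.symm⟩
  have hfix : σ (a : Ω) = a := by
    obtain ⟨b, -, rfl⟩ := Multiset.mem_map.1 ha
    refine hσ _ ⟨G, hGm, hGs, ?_⟩
    have hb := b.2
    rw [mem_roots (hGm.map _).ne_zero, IsRoot, eval_map] at hb
    exact hb
  let sW : W →+* W := (σ.toAlgHom.toRingHom.comp W.subtype).codRestrict W.toSubring
    (fun z => QUnip.stable (R := R) hW σ z z.2)
  have hkey : π (sW w) = π w := by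
    refine iterateFrobenius_inj (ResidueField W) q m ?_
    rw [iterateFrobenius_def, iterateFrobenius_def, ← map_pow, ← map_pow]
    have h1 : π (w ^ q ^ m - a) = 0 := by rw [map_sub, map_pow, hae, sub_self]
    have h2 : π (sW (w ^ q ^ m - a)) = 0 := by
      rw [residue_eq_zero_iff] at h1 ⊢
      intro hu
      refine h1 ?_
      obtain ⟨c, hc⟩ := hu.exists_left_inv
      refine IsUnit.of_mul_eq_one_right (⟨σ.symm c, QUnip.stable (R := R) hW σ.symm c c.2⟩ : W) (Subtype.ext ?_)
      apply σ.injective
      have := congrArg (fun z : W => (z : Ω)) hc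
      simpa [sW] using this
    have h3 : sW a = a := Subtype.ext hfix
    rw [map_sub, h3, map_sub, sub_eq_zero, map_pow, hae] at h2
    rw [map_pow, map_pow] at *
    exact h2
  rw [show σ x - x = ((sW w - w : W) : Ω) from rfl, ← W.valuation_lt_one_iff, ← residue_eq_zero_iff, map_sub]
  exact sub_eq_zero.2 hkey

/-- An element fixed by inertia lies in the field generated by roots of separable polynomials. -/
theorem mem_adjoin_of_fixed (hW : SGA7.LiesOver K R W) {a : Ω}
    (ha : ∀ σ : Ω ≃ₐ[K] Ω, SGA7.IsInertia W σ → σ a = a) :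
    a ∈ IntermediateField.adjoin K {θ : Ω | IsEtElem R θ} := by
  haveI : IsGalois K Ω := IsSepClosure.isGalois
  rw [← InfiniteGalois.fixedField_fixingSubgroup (IntermediateField.adjoin K {θ : Ω | IsEtElem R θ})]
  intro σ
  exact ha σ.1 (isInertia_of_fix hW σ.1 fun θ hθ =>
    (IntermediateField.mem_fixingSubgroup_iff _ _).1 σ.2 θ (IntermediateField.subset_adjoin K _ hθ))

include K in
/-- Finitely many roots of separable polynomials generate an etale algebra. -/
theorem etale_adjoin (s : Finset Ω) (hs : ∀ θ ∈ s, IsEtElem R θ) :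
    Algebra.Etale R (Algebra.adjoin R (s : Set Ω)) ∧ Module.Finite R (Algebra.adjoin R (s : Set Ω)) := by
  let A := Algebra.adjoin R (s : Set Ω)
  haveI hfin : Module.Finite R A :=
    Module.Finite.iff_fg.2 (fg_adjoin_of_finite s.finite_toSet fun θ hθ => (hs θ hθ).isIntegral)
  have hinj : Function.Injective (algebraMap R A) := fun r r' h => by
    have h' : algebraMap R Ω r = algebraMap R Ω r' := congrArg Subtype.val h
    rw [IsScalarTower.algebraMap_apply R K Ω, IsScalarTower.algebraMap_apply R K Ω] at h'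
    exact IsFractionRing.injective R K ((algebraMap K Ω).injective h')
  haveI : Module.IsTorsionFree R A := .of_smul_eq_zero fun r x h => by
    rw [Algebra.smul_def, mul_eq_zero] at h
    exact h.imp (fun h => hinj (h.trans (map_zero _).symm)) id
  haveI : Module.Flat R A := inferInstance
  haveI : Algebra.FinitePresentation R A := Algebra.FinitePresentation.of_finiteType.1 inferInstance
  haveI : Algebra.FormallyUnramified R A := by
    refine ⟨?_⟩
    refine subsingleton_of_forall_eq 0 fun ω => ?_
    have hω : ω ∈ Submodule.span A (Set.range (KaehlerDifferential.D R A)) := by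
      rw [KaehlerDifferential.span_range_derivation]; trivial
    suffices hD : ∀ x : A, KaehlerDifferential.D R A x = 0 by
      have : Submodule.span A (Set.range (KaehlerDifferential.D R A)) ≤ ⊥ := by
        rw [Submodule.span_le]; rintro _ ⟨x, rfl⟩; exact hD x
      exact this hω
    rintro ⟨x, hx⟩
    induction hx using Algebra.adjoin_induction with
    | mem θ hθ =>
      obtain ⟨G, hGm, ⟨c, d, hcd⟩, hG⟩ := hs θ hθ
      let t : A := ⟨θ, Algebra.subset_adjoin hθ⟩
      have hGt : aeval t G = 0 := Subtype.ext (by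
        show A.val (aeval t G) = 0
        rw [← aeval_algHom_apply]; exact hG)
      have h1 : aeval t (derivative G) • KaehlerDifferential.D R A t = 0 := by
        rw [← Derivation.map_aeval, hGt, map_zero]
      have h2 : aeval t d * aeval t (derivative G) = 1 := by
        have := congrArg (aeval t) hcd
        simpa [hGt] using this
      show KaehlerDifferential.D R A t = 0
      rw [← one_smul A (KaehlerDifferential.D R A t), ← h2, mul_smul, h1, smul_zero]
    | algebraMap r => exact (KaehlerDifferential.D R A).map_algebraMap r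
    | add x y hx hy ihx ihy =>
      show KaehlerDifferential.D R A (⟨x, hx⟩ + ⟨y, hy⟩) = 0
      rw [map_add, ihx, ihy, add_zero]
    | mul x y hx hy ihx ihy =>
      show KaehlerDifferential.D R A (⟨x, hx⟩ * ⟨y, hy⟩) = 0
      rw [Derivation.leibniz, ihx, ihy, smul_zero, smul_zero, add_zero]
  exact ⟨Algebra.Etale.of_formallyUnramified_of_flat, hfin⟩

end Groth.Agent.InertiaEt19
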